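import Mathlib
import Cfsg.Agent.H29.Ext

set_option autoImplicit false
set_option maxRecDepth 100000
set_option Elab.async false
set_option linter.all false

namespace H29.HB1

def ivl : List ℕ := [0, 2, 1, 3]
def cols : List ℕ := [0, 1, 2]
def hcols : List ℕ := [1, 2]
def G0 : List (List ℕ) := [[1, 1, 1, 1, 1, 1],
 [0, 2, 0, 1, 0, 2, 0, 1, 0, 2, 0, 1],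
 [0, 1, 1, 0, 1, 1, 1, 0, 1, 1, 0, 1, 1, 1, 0, 1, 1, 0, 1, 1, 1],
 [0, 1, 0, 1, 0, 1, 0, 1, 0, 1, 0, 1, 0, 1, 0, 1],
 [0, 1, 0, 1, 1, 1, 0, 1, 0, 1, 1, 1, 0, 1, 0, 1, 1, 1, 0, 1, 0, 1, 1, 1]]
def R0 : List (List ℕ) := G0
def w0 : List ℕ := [0, 1, 0, 2, 2, 0, 2, 0, 1, 0, 2, 0, 2, 2, 0, 1, 0, 1, 1, 1, 0, 1, 0, 2, 2, 2]
def R1 : List (List ℕ) := R0 ++ [w0]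
def w1 : List ℕ := [1, 0, 1, 1, 1, 0, 1, 1, 0, 2, 2, 2, 0, 1, 1, 0, 1, 1, 1, 0, 1]
def R2 : List (List ℕ) := R1 ++ [w1]
def w2 : List ℕ := [2, 0, 1, 0, 2, 2, 0, 2, 0, 2, 0, 2, 0, 2, 0, 2, 0, 2, 2, 0, 1, 0]
def R3 : List (List ℕ) := R2 ++ [w2]
def w3 : List ℕ := [2, 2, 0, 2, 0, 1, 1, 0, 1, 0, 2, 2, 0, 2, 0, 2, 0, 2, 0, 2, 2, 0, 1, 0, 1, 1, 0, 2, 0, 2]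
def R4 : List (List ℕ) := R3 ++ [w3]
def w4 : List ℕ := [0, 1, 0, 2, 0, 2, 0, 2, 2, 2, 0, 2, 2, 0, 2, 2, 2, 0, 2, 2, 0, 1, 1, 0, 1, 0, 2]
def R5 : List (List ℕ) := R4 ++ [w4]
def w5 : List ℕ := [2, 2, 2, 0, 2, 0, 1, 0, 1, 0, 2, 2, 2, 0, 2, 2, 0, 1, 1, 1, 0, 2, 2, 0, 2, 0, 1, 0, 2, 0, 1, 0, 1, 1, 0, 1, 1, 0, 1, 0, 1, 1, 0, 1, 1, 1, 0, 1, 1, 1, 0, 1, 0, 1, 1, 0, 2, 0, 1, 1, 1, 1, 0, 1, 1, 0, 2, 2, 2, 0, 1, 0, 1, 1, 0, 1, 0, 1, 1, 0, 2, 0, 2, 2, 0, 1, 0, 1, 1, 1, 0, 1, 0, 2, 0, 1, 0, 1, 0, 2, 2, 0, 2, 2, 0, 2, 2, 2, 0, 2, 2, 0, 1, 1, 0, 1, 0, 2, 0, 1, 1, 1, 1, 1, 1, 0, 1, 0, 1, 1, 0, 1, 1, 0, 1, 1, 0, 1, 1, 1, 1, 0, 1, 0, 1, 0, 1, 0, 1, 1, 1, 1, 1, 0, 1, 1, 0,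 2, 2, 0, 2, 0, 1, 0, 2, 2, 0, 2, 0, 2, 0, 1, 1, 0, 1, 0, 2, 0, 1, 0, 1, 0, 1, 0, 1, 1, 1, 0, 1, 0, 2, 0, 1, 0, 1, 1, 1, 1, 1, 0, 1, 1, 0, 2, 2, 0, 2, 0, 1, 0, 2, 2, 0, 1, 0, 2, 0, 2, 2, 0, 1, 0, 1, 1, 1, 0, 1, 0, 1, 0, 1, 0, 1, 1, 1, 0, 1, 0, 1, 0, 1, 0, 2, 2, 2, 2, 0, 2, 0, 1, 1, 0, 1, 0, 2, 2, 2, 2, 0, 2, 0, 2, 0, 2, 0, 2, 2, 2, 0, 2, 0, 2, 0, 2, 0, 1, 0, 2, 0, 1, 1, 0, 1, 0, 2, 0, 1, 0, 1, 1, 1, 1, 1, 0, 1, 1, 0, 2, 2, 0, 2, 0, 1, 0, 2, 2, 0, 1, 0, 2, 0, 2, 2, 0, 1, 0, 1, 1, 1, 0, 1, 0, 1, 0, 1, 0, 1, 1, 1, 0, 1, 0, 1, 1, 1, 1, 1, 0, 1, 0, 1, 1, 1, 0, 1, 0, 1, 1, 1, 1, 1, 1, 0, 1, 1, 0, 2, 2, 0, 2, 0, 1, 0, 2, 2, 2, 2, 0, 2, 0, 2, 0, 2, 0, 1, 0, 2, 0, 2,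 2, 2, 0, 2, 0, 2, 2, 0, 1, 0, 1, 1, 1, 0, 1, 0, 2, 0, 1, 0, 2, 0, 1, 0, 1, 1, 0, 1, 1, 1, 0, 1, 1, 1, 1, 0, 1, 1, 1, 0, 2, 2, 0, 2, 0, 2, 2, 2, 0, 2, 2, 2, 0, 2, 2, 2, 0, 2, 2, 0, 2, 2, 0, 2, 0, 1, 0, 2, 0, 2, 2, 0, 2, 2, 0, 2, 0, 1, 0, 2, 0, 1, 1, 1, 0, 1, 0, 1, 0, 2, 0, 2, 2]
def R6 : List (List ℕ) := R5 ++ [w5]
def w6 : List ℕ := [2, 2, 2, 0, 2, 0, 2, 2, 2, 0, 2, 0, 2, 0, 1, 1, 1, 0, 1, 1, 0, 1, 1, 1, 0, 2, 0, 2, 2, 0, 2, 2, 2, 0, 2, 2, 2, 0]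
def R7 : List (List ℕ) := R6 ++ [w6]
def w7 : List ℕ := [2, 0, 2, 0, 2, 0, 1, 1, 0, 1, 0, 1, 1, 1, 0, 1, 0, 1, 1, 1, 0, 1, 0, 1, 1, 0, 2, 0, 2, 0]
def R8 : List (List ℕ) := R7 ++ [w7]
def w8 : List ℕ := [1, 1, 0, 2, 2, 2, 0, 1, 0, 2, 2, 2, 0, 2, 0, 2, 2, 2, 0, 2, 0, 2, 2, 2, 0, 1, 0, 1, 1, 1, 0]
def R9 : List (List ℕ) := R8 ++ [w8]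
def w9 : List ℕ := [0, 2, 0, 1, 0, 1, 0, 1, 1, 1, 0, 1, 1, 0, 1, 1, 1, 0, 1, 1, 0, 2, 2, 0, 2, 0, 1]
def R10 : List (List ℕ) := R9 ++ [w9]
def w10 : List ℕ := [2, 0, 1, 1, 1, 0, 1, 0, 2, 2, 2, 0, 1, 0, 2, 2, 0, 2, 0, 1, 0, 1, 1, 0, 1, 1, 0, 1, 1, 1, 0, 1, 1, 0, 2]
def R11 : List (List ℕ) := R10 ++ [w10]
def w11 : List ℕ := [1, 0, 2, 2, 0, 2, 2, 2, 0, 1, 0, 2, 2, 0, 2, 2, 2, 0, 2, 2, 0, 2, 2, 2, 0, 1, 0, 2, 2, 0, 1, 1]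
def R12 : List (List ℕ) := R11 ++ [w11]
def w12 : List ℕ := [1, 0, 2, 0, 1, 1, 1, 0, 1, 1, 0, 2, 2, 2, 2, 0, 1, 0, 2, 0, 2, 2, 0, 1, 0, 1, 1, 1, 0, 1, 1, 1, 0, 1, 1, 1, 0, 1]
def R13 : List (List ℕ) := R12 ++ [w12]
def w13 : List ℕ := [1, 0, 1, 0, 1, 0, 2, 2, 2, 0, 2, 2, 0, 1, 1, 1, 0, 1, 0, 1, 1, 0, 1, 1, 0, 1, 0, 2, 0, 1, 0, 1, 1, 0, 1, 1, 0, 1, 0, 2, 2, 2, 0, 2, 2, 0, 2, 2, 2, 0]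
def R14 : List (List ℕ) := R13 ++ [w13]
def w14 : List ℕ := [2, 2, 2, 0, 1, 1, 0, 2, 2, 2, 0, 2, 2, 2, 2, 0, 1, 1, 1, 0, 1, 1, 0]
def R15 : List (List ℕ) := R14 ++ [w14]
def w15 : List ℕ := [1, 1, 0, 1, 0, 1, 1, 0, 2, 0, 1, 1, 1, 1, 0, 1, 0, 1, 1, 1, 0, 1, 0, 1, 0, 1, 0, 2, 2, 2, 0, 1, 0, 2, 2, 0, 2, 0]
def R16 : List (List ℕ) := R15 ++ [w15]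
def w16 : List ℕ := [0, 1, 0, 1, 0, 2, 2, 0, 2, 0, 2, 2, 2, 0, 2, 0, 2, 2, 2, 0, 1, 1, 0, 1, 1, 0, 1, 1, 1, 0, 1, 1, 0, 2, 2, 0, 1, 0, 1]
def R17 : List (List ℕ) := R16 ++ [w16]
def w17 : List ℕ := [2, 0, 1, 0, 1, 1, 1, 0, 1, 0, 1, 1, 0, 2, 0, 2, 0, 2, 0, 2, 2, 2, 2, 0, 1, 0, 2, 2, 0, 2, 0, 1, 0, 2, 0, 2, 0, 2, 0, 2]
def R18 : List (List ℕ) := R17 ++ [w17]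
def w18 : List ℕ := [0, 1, 0, 2, 0, 2, 2, 0, 2, 2, 0, 2, 2, 2, 0, 1, 0, 2, 2, 0, 2, 2, 2, 0, 2, 2, 2, 0, 1, 1, 1, 0, 2, 0, 2, 2, 2, 2]
def R19 : List (List ℕ) := R18 ++ [w18]
def w19 : List ℕ := [0, 1, 1, 0, 1, 1, 1, 0, 1, 1, 1, 1, 0, 1, 1, 1, 0, 1, 1, 0, 2, 2, 2, 0, 2, 2, 0, 2, 2, 2]
def R20 : List (List ℕ) := R19 ++ [w19]
def w20 : List ℕ := [1, 1, 1, 0, 1, 0, 1, 1, 1, 0, 1, 1, 1, 0, 2, 2, 2, 0, 1, 1, 0, 1, 0, 2, 2, 0, 2, 0, 2, 2, 0, 1, 0, 2, 2, 2, 0, 1, 1, 1, 0, 1, 1, 1, 0, 1, 1, 0, 2, 0, 1, 1, 1, 0, 2, 0, 1, 0, 1, 0]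
def R21 : List (List ℕ) := R20 ++ [w20]
def w21 : List ℕ := [1, 1, 0, 1, 0, 2, 2, 2, 2, 0, 2, 0, 2, 0, 2, 0, 2, 0, 2, 0, 1, 0, 2, 0, 1, 1, 1, 1, 0, 1, 0, 1, 1, 1, 1, 1, 1, 1, 1, 1, 0, 1, 1, 1, 0, 2, 2, 0, 1, 1, 1, 0, 1, 0, 1, 1, 0, 2, 0, 1, 1, 1, 0, 1, 1, 0, 2, 2, 2, 2, 0, 2, 0, 2, 0]
def R22 : List (List ℕ) := R21 ++ [w21]
def w22 : List ℕ := [0, 2, 2, 0, 2, 0, 1, 0, 1, 1, 0, 2, 0, 1, 1, 1, 0, 2, 2, 2, 0, 2, 2, 2, 0, 2, 2, 0, 2, 2, 2, 2, 2, 0, 2, 2, 2, 0, 2, 2]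
def R23 : List (List ℕ) := R22 ++ [w22]
def w23 : List ℕ := [2, 0, 2, 0, 2, 0, 1, 0, 2, 0, 2, 0, 2, 0, 2, 0, 1, 1, 0, 2, 2, 0, 2, 2, 2, 0, 1, 0, 2, 2, 2, 0, 2, 0, 2, 2, 2, 2, 0, 1, 0, 2, 0, 1, 0, 1, 0, 1, 0, 1, 0, 1, 0, 1, 0, 1, 0, 1, 1, 1, 0, 1, 0, 1, 1, 1, 0, 1, 0, 1, 0, 1, 0, 1, 0, 1, 1, 1, 1, 0, 2, 2, 0, 2, 2, 2, 2, 0]
def R24 : List (List ℕ) := R23 ++ [w23]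
def w24 : List ℕ := [0, 1, 0, 2, 0, 1, 0, 1, 0, 1, 0, 2, 2, 0, 2, 0, 2, 0, 2, 0, 1, 0, 1, 1, 0, 1, 1, 1, 1, 0, 1, 1, 1, 0, 1, 0, 1, 1, 1, 0, 1, 1, 1, 0, 2, 2, 2, 0, 1, 1, 1, 0, 2, 0, 1, 1, 0, 1, 0, 1, 1, 0, 2, 0, 2, 2, 2, 2, 2, 2, 0, 1, 0, 2, 2, 0, 1, 1, 0, 1, 0, 1, 1, 1, 1, 1, 1, 0, 2, 0, 2, 2, 0, 1, 0, 2, 0, 1, 0, 2, 0, 1, 0, 2, 2, 0, 2, 2, 2, 2, 0, 1, 1, 1, 0, 1, 1, 1, 0, 1, 0, 1, 1, 1, 1, 1, 1, 0, 2, 0, 2, 2, 2, 0, 2, 0, 1, 1, 1, 1, 1, 1, 0, 1, 0, 1, 1, 1, 0, 1, 0, 2, 0, 1, 0, 2, 0, 1, 0, 1, 0, 1, 0, 1, 0, 1, 0, 1, 0, 1, 1, 0, 2, 2, 2, 0, 1, 1, 0, 1, 1, 1, 1, 1, 1, 0, 2, 2, 0, 2, 2, 2, 0, 2, 0, 1, 1, 1, 0, 1, 0, 2, 0, 1, 0, 2, 2, 2, 2, 2, 0, 1, 1, 1, 0,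 2, 2, 2, 0, 2, 2, 2, 0, 2, 0, 2, 2, 2, 0, 2, 0, 2, 0, 1, 0, 2, 2, 2, 0, 1, 0, 2, 2, 2, 2, 2, 2, 2, 2, 2, 0, 2, 2, 2, 2, 2, 0, 2, 0, 1, 0, 2, 0, 2, 2, 0, 2, 0, 2, 2, 2, 2, 2, 0, 2, 0, 1, 0, 1, 1, 0, 2, 0, 1, 1, 1, 0, 2, 2, 2, 0, 2, 2, 2, 0, 2, 2, 0, 2, 0, 1, 0, 1, 0, 1, 0, 1, 0, 1, 0, 2, 2, 0, 2, 0, 1, 1, 1, 0, 1, 0, 1, 1, 1, 0, 1, 0, 1, 0, 2, 0, 1, 0, 2, 0, 2, 2, 0, 1, 1, 0, 2, 2, 0, 2, 0, 1, 0, 1, 1, 0, 2, 0, 1, 1, 1, 0, 2, 2, 2, 0, 2, 2, 2, 2, 2, 2, 0, 1, 1, 0, 2, 2, 2, 0, 2, 0, 2, 2, 0, 2, 2, 2, 0, 2, 2, 0, 2, 2, 0, 2, 0, 1, 0, 1, 1, 0, 2, 0, 1, 1, 1, 0, 1, 1, 0, 1, 0, 1, 1, 1, 0, 1, 0, 1, 1, 1, 0, 1, 0, 2, 0, 1, 1, 1, 0, 1, 1, 0, 1, 0, 1, 1, 0, 1, 0, 1,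 1, 0, 1, 0, 1, 1, 1, 0, 1, 1, 0, 2, 0, 1, 1, 1, 0, 2, 0, 1, 1, 1, 0, 2, 0, 1, 1, 1, 0, 1, 0, 2, 2, 2, 0, 2, 2, 0, 2, 2, 2, 0, 2, 2, 0, 1, 0, 2, 0, 2, 2, 2, 2]
def R25 : List (List ℕ) := R24 ++ [w24]
theorem hii : ∀ c, ivOf ivl (ivOf ivl c) = c := ivOf_ivOf (by decide +kernel)

end H29.HB1
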